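import Mathlib
import Cfsg.Agent.Lib.Comput.Check3
import Cfsg.Agent.Lib.J1.P.Data

/-! generated by tools/cgt -/

set_option autoImplicit false
set_option maxRecDepth 100000
set_option Elab.async false

namespace CfsgLib.J1.P

open CfsgLib.Comput

def R4_0 : RepC := ⟨14, 1, [],
  []⟩
def S4_0 : GenC := ⟨14, [],
  [(0, 0, 0, 1, 0), (0, 1, 0, 0, 0)], 0⟩
def L4 : Level := ⟨0x0, 0x2000, [], 1, 1, 0, 2, [R4_0], [S4_0]⟩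
def X4 : Ext := []

def R3_0 : RepC := ⟨11, 2, [],
  []⟩
def S3_0 : GenC := ⟨12, [],
  [(0, 0, 14, 1, 14), (0, 1, 0, 0, 0), (14, 1, 0, 1, 14)], 0⟩
def L3 : Level := ⟨0x2000, 0x3c00, [14], 2, 46, 0, 3, [R3_0], [S3_0]⟩
def X3 : Ext := [(10, 12, 0), (12, 0, 0xc0e)]

def R2_0 : RepC := ⟨8, 3, [(0xc0e, 14)],
  [(1, 1, [1])]⟩
def R2_1 : RepC := ⟨0x808, 6, [],
  []⟩
def S2_0 : GenC := ⟨9, [(0xc0e, 14)],
  [(0, 0, 12, 1, 12), (0, 1, 0, 0, 0), (12, 1, 0xb0e, 2, 14), (0, 2, 0, 1, 0), (12, 2, 11, 2, 0xc0e), (11, 2, 14, 2, 0xb0e)], 1⟩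
def L2 : Level := ⟨0x3c00, 0x3f80, [12, 14], 6, 44, 0, 10, [R2_0, R2_1], [S2_0]⟩
def X2 : Ext := [(7, 9, 0), (9, 0, 0x90b)]

def R1_0 : RepC := ⟨6, 10, [(0xc09090c0e, 0xa08), (0x80b0e, 14)],
  [(1, 2, [1, 2])]⟩
def S1_0 : GenC := ⟨7, [(0xa080e, 0x9090b0e), (0xc090c, 0xa080e)],
  [(0, 0, 8, 1, 8), (0, 1, 0, 0, 0), (8, 1, 14, 1, 0xc0909), (10, 1, 11, 1, 0x80c)], 2⟩
def L1 : Level := ⟨0x3f80, 0x3ff0, [9, 12, 14], 60, 16, 0, 11, [R1_0], [S1_0]⟩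
def X1 : Ext := [(5, 7, 0), (4, 0, 0x90b)]

def R0_0 : RepC := ⟨16, 11, [(0xc09, 0x807090c), (9, 6)],
  [(205, 5, [1, 2])]⟩
def R0_1 : RepC := ⟨0x302, 12, [(0xd0608, 0xb060c090c), (0x906090c, 0x807080c090b0e)],
  [(240, 5, [1, 2])]⟩
def R0_2 : RepC := ⟨3, 110, [(0x6090b0e, 0x60e), (0x7070d09090c, 0x60c0909)],
  [(8, 2, [1, 2])]⟩
def R0_3 : RepC := ⟨1, 132, [(0xb070a08, 0xc07080c0e)],
  [(88, 4, [1])]⟩
def S0_0 : GenC := ⟨15, [(9, 6), (0xc0e, 0x906080c090e)],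
  [(0, 0, 0xc06, 1, 0xc06), (0, 4, 0x8080e, 4, 0xb06080c090b0e), (0, 3, 0x609, 4, 0x80c0e), (6, 3, 0x80c09, 3, 0x807080c090b0e), (6, 4, 0x8070b, 3, 0x9090c), (0, 2, 0x70b, 4, 0xc060d09090b0e), (0x70c, 4, 13, 2, 0x9060b0e), (0x70b, 3, 0xd060e, 3, 0x609090b), (0, 1, 0, 0, 0), (7, 1, 0x7090e, 3, 0xc060d09090c), (0x70c, 3, 6, 1, 0x7080c090e)], 6⟩
def L0 : Level := ⟨0x3ff0, 0xffff, [7, 9, 12, 14], 660, 0, 0, 266, [R0_0, R0_1, R0_2, R0_3], [S0_0]⟩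
def X0 : Ext := [(15, 15, 0), (0, 0, 0x80f0f090e0f0c0608), (1, 1, 0), (2, 0, 0x10601060a080c), (3, 3, 0)]

def top : List ℕ := [1, 3]
def gs : List ℕ := [15, 7, 9, 12, 14]
def XD : Ext := [(1, 1, 0), (3, 3, 0), (4, 0, 0x303010103020203030103020203), (5, 0, 0x4040203010104010302020301), (6, 6, 0), (7, 0, 0x60605060506), (8, 8, 0), (9, 0, 0x7050605070506), (10, 0, 0x9090a080a08080a08), (11, 11, 0), (12, 0, 0x90a08080a0808), (13, 0, 0xb0d), (14, 0, 0x2040202), (15, 15, 0)]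
def MX : Level.MaxC := [[(0xc06, [0xc06])], [(0xc060606, [0x60e0907, 0, 0x7080c090c0e])], [(0, [0xc06, 0xb0708080b0e])], [(0xc060606, [0x7080e, 0x80c090b])]]
def NC : NclD := ⟨16, 19, [(0, [0xe0501, 0xc07020b060c090c0e]), (2, [0xa0f0905, 0x100b070a080c0e])]⟩

/-- all the equations of the certificate -/
structure Eqs {G : Type*} [Group G] (g : ℕ → G) : Prop where
  l4 : AllHold g L4.eqns
  x4 : AllHold g X4.eqns
  l3 : AllHold g L3.eqns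
  x3 : AllHold g X3.eqns
  l2 : AllHold g L2.eqns
  x2 : AllHold g X2.eqns
  l1 : AllHold g L1.eqns
  x1 : AllHold g X1.eqns
  l0 : AllHold g L0.eqns
  x0 : AllHold g X0.eqns
  xd : AllHold g XD.eqns
  mx : AllHold g (L0.maxEqns MX)
  nc : AllHold g NC.eqns

end CfsgLib.J1.P
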